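import Mathlib.LinearAlgebra.TensorProduct.RightExactness
import Mathlib.LinearAlgebra.TensorProduct.Basis
import Mathlib.LinearAlgebra.FreeModule.Basic
import Mathlib.LinearAlgebra.Dual.Lemmas

/-!
# Membership in the range of `f ⊗ id` over a field, tested by functionals
-/

set_option autoImplicit false
universe u v w z

open TensorProduct

namespace MonEqvLib

variable {k : Type u} [Field k] {P : Type v} {Q : Type w} {R : Type z} [AddCommGroup P] [Module k P]
  [AddCommGroup Q] [Module k Q] [AddCommGroup R] [Module k R]

/-- The contraction of the left factor with a functional. -/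
noncomputable def slice (μ : Q →ₗ[k] k) : Q ⊗[k] R →ₗ[k] R :=
  (TensorProduct.lid k R).toLinearMap ∘ₗ μ.rTensor R

@[simp] theorem slice_tmul (μ : Q →ₗ[k] k) (q : Q) (r : R) : slice μ (q ⊗ₜ[k] r) = μ q • r := by
  simp [slice]

theorem mem_range_rTensor_iff (f : P →ₗ[k] Q) (w : Q ⊗[k] R) :
    (∃ p, f.rTensor R p = w) ↔ ∀ μ : Q →ₗ[k] k, μ ∘ₗ f = 0 → slice μ w = 0 := by
  constructor
  · rintro ⟨p, rfl⟩ μ hμ
    induction p using TensorProduct.induction_on with
    | zero => simp
    | tmul a b => simp [show μ (f a) = 0 from LinearMap.congr_fun hμ a]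
    | add a b ha hb => simp [ha, hb]
  · intro h
    let π := (LinearMap.range f).mkQ
    have hex : Function.Exact f π := LinearMap.exact_map_mkQ_range f
    refine (rTensor_exact R hex (Submodule.mkQ_surjective _) w).mp ?_
    let b := Module.Free.chooseBasis k (Q ⧸ LinearMap.range f)
    apply (TensorProduct.equivFinsuppOfBasisLeft (N := R) b).injective
    rw [map_zero]
    ext j
    have hμ : (b.coord j ∘ₗ π) ∘ₗ f = 0 := by
      ext p; simp [π, (Submodule.Quotient.mk_eq_zero _).mpr (LinearMap.mem_range_self f p)]
    have hs : ∀ y : Q ⊗[k] R,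
        (TensorProduct.equivFinsuppOfBasisLeft b (π.rTensor R y)) j = slice (b.coord j ∘ₗ π) y := by
      intro y
      induction y using TensorProduct.induction_on with
      | zero => simp
      | tmul a c => simp [π]
      | add a c ha hc => simp [ha, hc]
    rw [hs w, h _ hμ]
    rfl

theorem slice_lTensor {R' : Type z} [AddCommGroup R'] [Module k R'] (φ : R →ₗ[k] R') (μ : Q →ₗ[k] k)
    (w : Q ⊗[k] R) : slice μ (φ.lTensor Q w) = φ (slice μ w) := by
  induction w using TensorProduct.induction_on with
  | zero => simp
  | tmul a b => simp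
  | add a b ha hb => simp [ha, hb]

end MonEqvLib
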