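import Groth.Agent.MonEqvLib.Base
import Groth.Agent.MonEqvLib.Coord
import Mathlib.AlgebraicGeometry.Pullbacks
import Mathlib.Algebra.Category.Ring.Constructions

/-!
# Functions on products of affine schemes over a field, and the criterion for extending an orbit map
-/

set_option autoImplicit false
set_option linter.style.haveILetI false
universe u

open CategoryTheory CategoryTheory.Limits MonoidalCategory CartesianMonoidalCategory MonObj AlgebraicGeometry Opposite
open scoped TensorProduct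

noncomputable section

namespace MonEqvLib

variable {k : Type u} [Field k]


/-- The algebra of functions on a scheme over a field. -/
scoped instance fnAlgebra (B : Over (Spec (CommRingCat.of k))) : Algebra k Γ(B.left, ⊤) :=
  ((Scheme.ΓSpecIso (CommRingCat.of k)).inv ≫ B.hom.appTop).hom.toAlgebra

/-- The map on functions of a morphism. -/
def fn {B B' : Over (Spec (CommRingCat.of k))} (f : B ⟶ B') : Γ(B'.left, ⊤) →ₐ[k] Γ(B.left, ⊤) :=
  { f.left.appTop.hom with
    commutes' := fun r => by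
      change f.left.appTop (B'.hom.appTop _) = B.hom.appTop _
      rw [← ConcreteCategory.comp_apply, ← Scheme.Hom.comp_appTop, Over.w]
      }

@[simp] theorem fn_apply {B B' : Over (Spec (CommRingCat.of k))} (f : B ⟶ B') (a : Γ(B'.left, ⊤)) : fn f a = f.left.appTop a := rfl

theorem fn_comp {B B' B'' : Over (Spec (CommRingCat.of k))} (f : B ⟶ B') (g : B' ⟶ B'') (a : Γ(B''.left, ⊤)) :
    fn f (fn g a) = fn (f ≫ g) a := by
  simp only [fn_apply, Over.comp_left, Scheme.Hom.comp_appTop]
  rfl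

/-- The comparison `Γ(B) ⊗ Γ(T) → Γ(B ⊗ T)`. -/
def tau (B T : Over (Spec (CommRingCat.of k))) : Γ(B.left, ⊤) ⊗[k] Γ(T.left, ⊤) →ₐ[k] Γ((B ⊗ T).left, ⊤) :=
  Algebra.TensorProduct.lift (fn (fst B T)) (fn (snd B T)) fun _ _ => Commute.all _ _

theorem tau_tmul (B T : Over (Spec (CommRingCat.of k))) (b : Γ(B.left, ⊤)) (t : Γ(T.left, ⊤)) :
    tau B T (b ⊗ₜ t) = fn (fst B T) b * fn (snd B T) t := Algebra.TensorProduct.lift_tmul _ _ _ _ _

theorem tau_bijective (B T : Over (Spec (CommRingCat.of k))) [IsAffine B.left] [IsAffine T.left] : Function.Bijective (tau B T) := by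
  have h1 := isPushout_appTop_of_isPullback (IsPullback.of_hasPullback B.hom T.hom)
  have h2 : IsPushout (CommRingCat.ofHom (algebraMap k Γ(B.left, ⊤))) (CommRingCat.ofHom (algebraMap k Γ(T.left, ⊤)))
      (pullback.fst B.hom T.hom).appTop (pullback.snd B.hom T.hom).appTop :=
    h1.of_iso (Scheme.ΓSpecIso (CommRingCat.of k)) (Iso.refl _) (Iso.refl _) (Iso.refl _)
      (by
        rw [Iso.refl_hom, Category.comp_id]
        exact ((Scheme.ΓSpecIso (CommRingCat.of k)).hom_inv_id_assoc B.hom.appTop).symm)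
      (by
        rw [Iso.refl_hom, Category.comp_id]
        exact ((Scheme.ΓSpecIso (CommRingCat.of k)).hom_inv_id_assoc T.hom.appTop).symm)
      (by simp) (by simp)
  let e := (CommRingCat.isPushout_tensorProduct k Γ(B.left, ⊤) Γ(T.left, ⊤)).isoIsPushout _ _ h2
  have he : e.hom.hom = (tau B T).toRingHom := by
    have : e.hom = CommRingCat.ofHom (tau B T).toRingHom := by
      refine (CommRingCat.isPushout_tensorProduct k Γ(B.left, ⊤) Γ(T.left, ⊤)).hom_ext ?_ ?_
      · rw [IsPushout.inl_isoIsPushout_hom]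
        refine CommRingCat.hom_ext (RingHom.ext fun b => ?_)
        change (pullback.fst B.hom T.hom).appTop b = tau B T (b ⊗ₜ 1)
        rw [tau_tmul, map_one, _root_.mul_one]
        rfl
      · rw [IsPushout.inr_isoIsPushout_hom]
        refine CommRingCat.hom_ext (RingHom.ext fun b => ?_)
        change (pullback.snd B.hom T.hom).appTop b = tau B T (1 ⊗ₜ b)
        rw [tau_tmul, map_one, _root_.one_mul]
        rfl
    exact congrArg CommRingCat.Hom.hom this
  have hb := e.commRingCatIsoToRingEquiv.bijective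
  have : ⇑(tau B T) = ⇑e.commRingCatIsoToRingEquiv := funext fun z => (RingHom.congr_fun he z).symm
  rw [this]
  exact hb

theorem tau_lTensor (B : Over (Spec (CommRingCat.of k))) {T T' : Over (Spec (CommRingCat.of k))} (e : T' ⟶ T) (z : Γ(B.left, ⊤) ⊗[k] Γ(T.left, ⊤)) :
    fn (B ◁ e) (tau B T z) = tau B T' ((fn e).toLinearMap.lTensor _ z) := by
  induction z using TensorProduct.induction_on with
  | zero => simp
  | tmul b t =>
    rw [LinearMap.lTensor_tmul, tau_tmul, map_mul, fn_comp, fn_comp, whiskerLeft_fst, whiskerLeft_snd,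
      AlgHom.toLinearMap_apply, tau_tmul, fn_comp]
  | add a b ha hb => simp only [map_add, ha, hb]

theorem tau_rTensor {B B' : Over (Spec (CommRingCat.of k))} (f : B' ⟶ B) (T : Over (Spec (CommRingCat.of k))) (z : Γ(B.left, ⊤) ⊗[k] Γ(T.left, ⊤)) :
    fn (f ▷ T) (tau B T z) = tau B' T ((fn f).toLinearMap.rTensor _ z) := by
  induction z using TensorProduct.induction_on with
  | zero => simp
  | tmul b t =>
    rw [LinearMap.rTensor_tmul, tau_tmul, map_mul, fn_comp, fn_comp, whiskerRight_fst, whiskerRight_snd,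
      AlgHom.toLinearMap_apply, tau_tmul, fn_comp]
  | add a b ha hb => simp only [map_add, ha, hb]

open Magnet

variable {M G X : Over (Spec (CommRingCat.of k))} [MonObj M] [GrpObj G] (i : G ⟶ M) [IsMonHom i] (a : MonAct G X)
  [IsAffine M.left] [IsAffine G.left]

theorem isAffine_tensor (B T : Over (Spec (CommRingCat.of k))) [IsAffine B.left] [IsAffine T.left] : IsAffine (B ⊗ T).left := by
  haveI : IsAffineHom B.hom := isAffineHom_of_isAffine _
  exact inferInstanceAs (IsAffine (pullback B.hom T.hom))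

/-- The coefficients of the orbit map of a point. -/
def coef {T : Over (Spec (CommRingCat.of k))} [IsAffine T.left] (x : T ⟶ X) (r : Γ(X.left, ⊤)) : Γ(G.left, ⊤) ⊗[k] Γ(T.left, ⊤) :=
  (RingEquiv.ofBijective (tau G T).toRingHom (tau_bijective G T)).symm (fn (orbit a x) r)

omit [IsMonHom i] [IsAffine M.left] in
theorem tau_coef {T : Over (Spec (CommRingCat.of k))} [IsAffine T.left] (x : T ⟶ X) (r : Γ(X.left, ⊤)) :
    tau G T (coef a x r) = fn (orbit a x) r :=
  (RingEquiv.ofBijective (tau G T).toRingHom (tau_bijective G T)).apply_symm_apply _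

omit [IsMonHom i] [IsAffine M.left] in
theorem coef_comp {T T' : Over (Spec (CommRingCat.of k))} [IsAffine T.left] [IsAffine T'.left] (e : T' ⟶ T) (x : T ⟶ X)
    (r : Γ(X.left, ⊤)) : coef a (e ≫ x) r = (fn e).toLinearMap.lTensor _ (coef a x r) := by
  apply (tau_bijective G T').1
  rw [tau_coef, ← tau_lTensor, tau_coef, fn_comp, orbit_comp]

/-- The orbit map of a point extends over the monoid. -/
def Extends {T : Over (Spec (CommRingCat.of k))} (x : T ⟶ X) : Prop := ∃ ψ : M ⊗ T ⟶ X, (i ▷ T) ≫ ψ = orbit a x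

omit [IsMonHom i] [IsAffine M.left] [IsAffine G.left] in
theorem Extends.precomp {T T' : Over (Spec (CommRingCat.of k))} {x : T ⟶ X} (h : Extends i a x) (e : T' ⟶ T) : Extends i a (e ≫ x) := by
  obtain ⟨ψ, hψ⟩ := h
  exact ⟨(M ◁ e) ≫ ψ, by rw [← whisker_exchange_assoc, hψ, orbit_comp]⟩

/-- The ideal of the points whose orbit map extends. -/
def extIdeal [IsAffine X.left] : Ideal Γ(X.left, ⊤) :=
  Ideal.span {s | ∃ (r : Γ(X.left, ⊤)) (ν : Γ(G.left, ⊤) →ₗ[k] k),
    ν ∘ₗ (fn i).toLinearMap = 0 ∧ slice ν (coef a (𝟙 X) r) = s}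

variable [IsAffine X.left]

omit [IsMonHom i] in
theorem le_ker_of_ext {T : Over (Spec (CommRingCat.of k))} [IsAffine T.left] {x : T ⟶ X} (h : Extends i a x) :
    extIdeal i a ≤ RingHom.ker x.left.appTop.hom := by
  obtain ⟨ψ, hψ⟩ := h
  rw [extIdeal, Ideal.span_le]
  rintro _ ⟨r, ν, hν, rfl⟩
  rw [SetLike.mem_coe, RingHom.mem_ker]
  have hc : coef a x r = (fn x).toLinearMap.lTensor _ (coef a (𝟙 X) r) := by
    rw [← coef_comp, Category.comp_id]
  obtain ⟨p, hp⟩ := (tau_bijective M T).2 (fn ψ r)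
  have hr : (fn i).toLinearMap.rTensor _ p = coef a x r := by
    apply (tau_bijective G T).1
    rw [← tau_rTensor, hp, fn_comp, hψ, tau_coef]
  have h0 := (mem_range_rTensor_iff _ _).mp ⟨p, hr⟩ ν hν
  rw [hc, slice_lTensor] at h0
  exact h0

variable [IsSchemeTheoreticallyDominant i.left] [QuasiCompact i.left]

omit [IsMonHom i] in
theorem ext_of_le_ker {T : Over (Spec (CommRingCat.of k))} [IsAffine T.left] {x : T ⟶ X}
    (h : extIdeal i a ≤ RingHom.ker x.left.appTop.hom) : Extends i a x := by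
  haveI := isAffine_tensor M T
  haveI := (std_whiskerRight i T).1
  haveI := (std_whiskerRight i T).2
  let f : Γ((M ⊗ T).left, ⊤) →+* Γ((G ⊗ T).left, ⊤) := (fn (i ▷ T)).toRingHom
  let g : Γ(X.left, ⊤) →+* Γ((G ⊗ T).left, ⊤) := (fn (orbit a x)).toRingHom
  have hf : Function.Injective f := (i ▷ T).left.app_injective ⊤
  have hg : ∀ r, g r ∈ f.range := by
    intro r
    obtain ⟨p, hp⟩ : ∃ p, (fn i).toLinearMap.rTensor _ p = coef a x r := by
      rw [mem_range_rTensor_iff]
      intro ν hν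
      rw [show coef a x r = (fn x).toLinearMap.lTensor _ (coef a (𝟙 X) r) by rw [← coef_comp, Category.comp_id],
        slice_lTensor]
      exact h (Ideal.subset_span ⟨r, ν, hν, rfl⟩)
    refine ⟨tau M T p, ?_⟩
    change fn (i ▷ T) (tau M T p) = fn (orbit a x) r
    rw [tau_rTensor, hp, tau_coef]
  let ef : Γ((M ⊗ T).left, ⊤) ≃+* f.range := RingEquiv.ofBijective f.rangeRestrict
    ⟨fun p q hpq => hf (congrArg Subtype.val hpq), f.rangeRestrict_surjective⟩
  let φ : Γ(X.left, ⊤) →+* Γ((M ⊗ T).left, ⊤) := ef.symm.toRingHom.comp (g.codRestrict f.range hg)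
  have hφ : ∀ r, f (φ r) = g r := fun r => congrArg Subtype.val (ef.apply_symm_apply (g.codRestrict f.range hg r))
  let ψl : (M ⊗ T).left ⟶ X.left :=
    (M ⊗ T).left.isoSpec.hom ≫ Spec.map (CommRingCat.ofHom φ) ≫ X.left.isoSpec.inv
  have htop : ψl.appTop = CommRingCat.ofHom φ := by
    simp [ψl, Scheme.isoSpec]
    exact (congrArg (· ≫ CommRingCat.ofHom φ) (Scheme.toSpecΓ_appTop X.left)).symm
  have hres : (i ▷ T).left ≫ ψl = (orbit a x).left := by
    apply ext_of_isAffine
    rw [Scheme.Hom.comp_appTop, htop]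
    exact CommRingCat.hom_ext (RingHom.ext hφ)
  have hw : ψl ≫ X.hom = (M ⊗ T).hom := by
    apply ext_of_isAffine
    apply CommRingCat.hom_ext
    refine RingHom.ext fun r => hf ?_
    change (i ▷ T).left.appTop ((ψl ≫ X.hom).appTop r) = (i ▷ T).left.appTop ((M ⊗ T).hom.appTop r)
    rw [← ConcreteCategory.comp_apply, ← ConcreteCategory.comp_apply, ← Scheme.Hom.comp_appTop,
      ← Scheme.Hom.comp_appTop, ← Category.assoc, hres, Over.w, Over.w]
  exact ⟨Over.homMk ψl hw, Over.OverMorphism.ext hres⟩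

omit [IsMonHom i] in
/-- The points with extendable orbit map form a closed subscheme. -/
theorem exists_closed :
    ∃ (Z : Over (Spec (CommRingCat.of k))) (j : Z ⟶ X), IsClosedImmersion j.left ∧ Extends i a j ∧
      ∀ (T : Over (Spec (CommRingCat.of k))) (x : T ⟶ X), Extends i a x → ∃ z : T ⟶ Z, z ≫ j = x := by
  let I := extIdeal i a
  let q : Γ(X.left, ⊤) ⟶ CommRingCat.of (Γ(X.left, ⊤) ⧸ I) := CommRingCat.ofHom (Ideal.Quotient.mk I)
  let jl : Spec (CommRingCat.of (Γ(X.left, ⊤) ⧸ I)) ⟶ X.left := Spec.map q ≫ X.left.isoSpec.inv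
  let Z : Over (Spec (CommRingCat.of k)) := Over.mk (jl ≫ X.hom)
  let j : Z ⟶ X := Over.homMk jl rfl
  haveI : IsClosedImmersion (Spec.map q) := IsClosedImmersion.spec_of_surjective q Ideal.Quotient.mk_surjective
  haveI hj : IsClosedImmersion j.left := inferInstanceAs (IsClosedImmersion (Spec.map q ≫ X.left.isoSpec.inv))
  haveI : IsAffine Z.left := inferInstanceAs (IsAffine (Spec _))
  have hjt : jl.appTop = q ≫ (Scheme.ΓSpecIso _).inv := by
    simp [jl, Scheme.isoSpec]
  refine ⟨Z, j, hj, ext_of_le_ker i a fun r hr => ?_, fun T x hx => ?_⟩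
  · rw [RingHom.mem_ker]
    change jl.appTop r = 0
    rw [hjt]
    change (Scheme.ΓSpecIso (CommRingCat.of (Γ(X.left, ⊤) ⧸ I))).inv (q r) = 0
    rw [show q r = 0 from Ideal.Quotient.eq_zero_iff_mem.mpr hr, map_zero]
  · have hI : I ≤ RingHom.ker x.left.appTop.hom := by
      intro r hr
      rw [RingHom.mem_ker]
      refine T.left.IsSheaf.section_ext fun t _ => ?_
      obtain ⟨V, hV, htV, -⟩ := exists_isAffineOpen_mem_and_subset (x := t) (U := ⊤) trivial
      let W : Over (Spec (CommRingCat.of k)) := Over.mk (hV.fromSpec ≫ T.hom)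
      haveI : IsAffine W.left := inferInstanceAs (IsAffine (Spec _))
      let e : W ⟶ T := Over.homMk hV.fromSpec rfl
      have h0 := le_ker_of_ext i a (Extends.precomp i a hx e) hr
      rw [RingHom.mem_ker] at h0
      refine ⟨V, le_top, htV, ?_⟩
      have h1 : hV.fromSpec.appTop (x.left.appTop r) = 0 := by
        rw [← ConcreteCategory.comp_apply, ← Scheme.Hom.comp_appTop]
        exact h0
      have hi : hV.isoSpec.hom.appTop (hV.fromSpec.appTop (x.left.appTop r)) = 0 := by rw [h1, map_zero]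
      rw [← ConcreteCategory.comp_apply, ← Scheme.Hom.comp_appTop, hV.isoSpec_hom_fromSpec,
        Scheme.Opens.ι_appTop] at hi
      rw [map_zero]
      have h2 := (congrArg (ConcreteCategory.hom (T.left.presheaf.map (eqToHom V.ι_image_top.symm).op)) hi).trans
        (RingHom.map_zero (T.left.presheaf.map (eqToHom V.ι_image_top.symm).op).hom)
      have h3 := DFunLike.congr_fun (congrArg ConcreteCategory.hom (T.left.presheaf.map_comp
        (homOfLE (le_top : V.ι ''ᵁ ⊤ ≤ ⊤)).op (eqToHom V.ι_image_top.symm).op)) (x.left.appTop r)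
      exact h3.trans h2
    let φ : CommRingCat.of (Γ(X.left, ⊤) ⧸ I) ⟶ Γ(T.left, ⊤) :=
      CommRingCat.ofHom (Ideal.Quotient.lift I x.left.appTop.hom hI)
    have hz : (T.left.toSpecΓ ≫ Spec.map φ) ≫ jl = x.left := by
      apply ext_of_isAffine
      rw [Scheme.Hom.comp_appTop, hjt]
      simp only [Scheme.Hom.comp_appTop, Scheme.toSpecΓ_appTop, Category.assoc,
        Scheme.ΓSpecIso_inv_naturality_assoc, Iso.inv_hom_id_assoc]
      simp
      exact CommRingCat.hom_ext (Ideal.Quotient.lift_comp_mk I _ hI)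
    refine ⟨Over.homMk (T.left.toSpecΓ ≫ Spec.map φ) ?_, Over.OverMorphism.ext hz⟩
    change (T.left.toSpecΓ ≫ Spec.map φ) ≫ jl ≫ X.hom = T.hom
    rw [← Category.assoc, hz, Over.w]

end MonEqvLib

end
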