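import Groth.Prelude.Def_Magnet2
import Mathlib.AlgebraicGeometry.Morphisms.SchemeTheoreticallyDominant
import Mathlib.AlgebraicGeometry.Morphisms.ClosedImmersion
import Mathlib.AlgebraicGeometry.Morphisms.Separated
import Mathlib.AlgebraicGeometry.Morphisms.Affine

/-!
# Equivariant maps out of a monoid with a schematically dense group

Products with a scheme-theoretically dominant morphism over a field, extension of morphisms through closed
immersions, and the reduction of equivariant maps out of `M ⊗ T` to extensions of orbit maps.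
-/

set_option autoImplicit false
set_option linter.style.haveILetI false
universe u

open CategoryTheory CategoryTheory.Limits MonoidalCategory CartesianMonoidalCategory MonObj AlgebraicGeometry Opposite

noncomputable section

namespace MonEqvLib

variable {k : Type u} [Field k]


theorem flat_hom (T : Over (Spec (CommRingCat.of k))) : Flat T.hom := by
  haveI : Subsingleton (Spec (CommRingCat.of k)) := inferInstance
  infer_instance

theorem flat_fst (A B : Over (Spec (CommRingCat.of k))) : Flat (fst A B).left := by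
  haveI := flat_hom B
  exact inferInstanceAs (Flat (pullback.fst A.hom B.hom))

theorem flat_snd (A B : Over (Spec (CommRingCat.of k))) : Flat (snd A B).left := by
  haveI := flat_hom A
  exact inferInstanceAs (Flat (pullback.snd A.hom B.hom))

theorem isPullback_whiskerLeft (B : Over (Spec (CommRingCat.of k))) {T T' : Over (Spec (CommRingCat.of k))} (q : T' ⟶ T) :
    IsPullback (B ◁ q).left (snd B T').left (snd B T).left q.left := by
  refine IsPullback.of_right ?_ (by rw [← Over.comp_left, ← Over.comp_left, whiskerLeft_snd])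
    (IsPullback.of_hasPullback B.hom T.hom)
  have h' : (B ◁ q).left ≫ (fst B T).left = (fst B T').left := by rw [← Over.comp_left, whiskerLeft_fst]
  change IsPullback ((B ◁ q).left ≫ (fst B T).left) (snd B T').left B.hom (q.left ≫ T.hom)
  rw [h', Over.w q]
  exact IsPullback.of_hasPullback B.hom T'.hom

theorem isPullback_whiskerRight {B B' : Over (Spec (CommRingCat.of k))} (q : B' ⟶ B) (T : Over (Spec (CommRingCat.of k))) :
    IsPullback (q ▷ T).left (fst B' T).left (fst B T).left q.left := by
  refine IsPullback.of_right ?_ (by rw [← Over.comp_left, ← Over.comp_left, whiskerRight_fst])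
    (IsPullback.of_hasPullback B.hom T.hom).flip
  have h' : (q ▷ T).left ≫ (snd B T).left = (snd B' T).left := by rw [← Over.comp_left, whiskerRight_snd]
  change IsPullback ((q ▷ T).left ≫ (snd B T).left) (fst B' T).left T.hom (q.left ≫ B.hom)
  rw [h', Over.w q]
  exact (IsPullback.of_hasPullback B'.hom T.hom).flip

theorem std_whiskerLeft (B : Over (Spec (CommRingCat.of k))) {T T' : Over (Spec (CommRingCat.of k))} (q : T' ⟶ T) [IsSchemeTheoreticallyDominant q.left]
    [QuasiCompact q.left] :
    IsSchemeTheoreticallyDominant (B ◁ q).left ∧ QuasiCompact (B ◁ q).left := by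
  haveI := flat_snd B T
  exact ⟨IsSchemeTheoreticallyDominant.of_isPullback (isPullback_whiskerLeft B q).flip,
    MorphismProperty.of_isPullback (isPullback_whiskerLeft B q).flip inferInstance⟩

theorem std_whiskerRight {B B' : Over (Spec (CommRingCat.of k))} (q : B' ⟶ B) (T : Over (Spec (CommRingCat.of k))) [IsSchemeTheoreticallyDominant q.left]
    [QuasiCompact q.left] :
    IsSchemeTheoreticallyDominant (q ▷ T).left ∧ QuasiCompact (q ▷ T).left := by
  haveI := flat_fst B T
  exact ⟨IsSchemeTheoreticallyDominant.of_isPullback (isPullback_whiskerRight q T).flip,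
    MorphismProperty.of_isPullback (isPullback_whiskerRight q T).flip inferInstance⟩

/-- A morphism out of the target of a schematically dominant morphism lands in a closed subscheme as soon as its
restriction to the source does. -/
theorem exists_lift_closed {S : Scheme.{u}} {P Q Z X : Over S} (f : P ⟶ Q) [IsSchemeTheoreticallyDominant f.left]
    (j : Z ⟶ X) [IsClosedImmersion j.left] (h : Q ⟶ X) (h₀ : P ⟶ Z) (w : h₀ ≫ j = f ≫ h) :
    ∃ χ : Q ⟶ Z, χ ≫ j = h := by
  let i := Limits.pullback.fst h.left j.left
  haveI : IsClosedImmersion i := MorphismProperty.pullback_fst _ _ inferInstance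
  have hc : f.left ≫ h.left = h₀.left ≫ j.left := congrArg CommaMorphism.left w.symm
  have hfac : Limits.pullback.lift f.left h₀.left hc ≫ i = f.left := Limits.pullback.lift_fst _ _ _
  have hker : i.ker = ⊥ := by
    refine le_bot_iff.mp ?_
    rw [← f.left.ker_eq_bot, ← hfac]
    exact Scheme.Hom.le_ker_comp _ _
  haveI : IsIso i := IsClosedImmersion.isIso_of_ker_eq i (𝟙 _) i (Category.comp_id _)
    (by rw [hker]; exact (Scheme.Hom.ker_eq_bot_of_isIso (𝟙 _)).symm)
  have hw : (inv i ≫ Limits.pullback.snd h.left j.left) ≫ j.left = h.left := by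
    rw [Category.assoc, ← Limits.pullback.condition, IsIso.inv_hom_id_assoc]
  refine ⟨Over.homMk (inv i ≫ Limits.pullback.snd h.left j.left) ?_, Over.OverMorphism.ext hw⟩
  rw [← Over.w j, ← Category.assoc, hw, Over.w h]

/-- Morphisms to a separated object are determined on a schematically dense part. -/
theorem eq_of_std {S : Scheme.{u}} {P Q X : Over S} (f : P ⟶ Q) [IsSchemeTheoreticallyDominant f.left]
    [IsSeparated X.hom] {h₁ h₂ : Q ⟶ X} (w : f ≫ h₁ = f ≫ h₂) : h₁ = h₂ := by
  haveI : IsClosedImmersion (lift (𝟙 X) (𝟙 X)).left := by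
    have e : (lift (𝟙 X) (𝟙 X)).left = pullback.diagonal X.hom := by
      apply pullback.hom_ext
      · rw [pullback.diagonal_fst]
        exact congrArg CommaMorphism.left (lift_fst (𝟙 X) (𝟙 X))
      · rw [pullback.diagonal_snd]
        exact congrArg CommaMorphism.left (lift_snd (𝟙 X) (𝟙 X))
    rw [e]
    exact IsSeparated.isClosedImmersion_diagonal
  obtain ⟨χ, hχ⟩ := exists_lift_closed f (lift (𝟙 X) (𝟙 X)) (lift h₁ h₂) (f ≫ h₁) (by
    rw [comp_lift, comp_lift, Category.comp_id, w])
  rw [comp_lift, Category.comp_id] at hχ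
  have h1 := congrArg (· ≫ fst X X) hχ
  have h2 := congrArg (· ≫ snd X X) hχ
  simp only [lift_fst, lift_snd] at h1 h2
  exact h1.symm.trans h2

open Magnet

variable {M G X : Over (Spec (CommRingCat.of k))} [MonObj M] [GrpObj G] (i : G ⟶ M) [IsMonHom i] (a : MonAct G X)

/-- The orbit map of a point. -/
def orbit {T : Over (Spec (CommRingCat.of k))} (x : T ⟶ X) : G ⊗ T ⟶ X := (G ◁ x) ≫ a.act

/-- The restriction to the unit section. -/
def eval {T : Over (Spec (CommRingCat.of k))} (ψ : M ⊗ T ⟶ X) : T ⟶ X :=
  (lift (toUnit T ≫ η[M]) (𝟙 T) : T ⟶ M ⊗ T) ≫ ψ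

omit [IsMonHom i] in
theorem orbit_comp {T T' : Over (Spec (CommRingCat.of k))} (e : T' ⟶ T) (x : T ⟶ X) :
    orbit a (e ≫ x) = (G ◁ e) ≫ orbit a x := by
  rw [orbit, orbit, MonoidalCategory.whiskerLeft_comp, Category.assoc]

/-- An equivariant map restricts on `G ⊗ T` to the orbit map of its value at the unit. -/
theorem restrict_eq_orbit {T : Over (Spec (CommRingCat.of k))} {ψ : M ⊗ T ⟶ X}
    (hψ : MonAct.IsEquivariant (((MonAct.regular M).restrict i).prod (MonAct.trivial G T)) a ψ) :
    (i ▷ T) ≫ ψ = orbit a (eval ψ) := by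
  rw [MonAct.mem_eqvHom_iff] at hψ
  apply hom_ext_lift₂
  intro R g t
  have h := hψ R g 1 t
  rw [MonAct.lift_restrict_act, MonAct.lift_regular_act, _root_.mul_one] at h
  rw [lift_whiskerRight_assoc, h, orbit, lift_whiskerLeft_assoc, eval, comp_lift_assoc, Category.comp_id]
  congr 3
  rw [Hom.one_def, ← Category.assoc, toUnit_unique (t ≫ toUnit T) (toUnit R)]

theorem eval_eq {T : Over (Spec (CommRingCat.of k))} {ψ : M ⊗ T ⟶ X} {x : T ⟶ X} (hψ : (i ▷ T) ≫ ψ = orbit a x) :
    eval ψ = x := by
  have h := congrArg (lift (1 : T ⟶ G) (𝟙 T) ≫ ·) hψ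
  simp only [lift_whiskerRight_assoc, orbit, lift_whiskerLeft_assoc, Category.id_comp, MonAct.lift_one_act,
    MonObj.one_comp] at h
  rw [eval, ← Hom.one_def]
  exact h

variable [IsSchemeTheoreticallyDominant i.left] [QuasiCompact i.left]

theorem ext_unique [IsSeparated X.hom] {T : Over (Spec (CommRingCat.of k))} {ψ₁ ψ₂ : M ⊗ T ⟶ X}
    (h : (i ▷ T) ≫ ψ₁ = (i ▷ T) ≫ ψ₂) : ψ₁ = ψ₂ := by
  haveI := (std_whiskerRight i T).1
  exact eq_of_std _ h

/-- A map restricting on `G ⊗ T` to an orbit map is equivariant. -/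
theorem isEquivariant_of_orbit [IsSeparated X.hom] {T : Over (Spec (CommRingCat.of k))} {ψ : M ⊗ T ⟶ X} {x : T ⟶ X}
    (hψ : (i ▷ T) ≫ ψ = orbit a x) :
    MonAct.IsEquivariant (((MonAct.regular M).restrict i).prod (MonAct.trivial G T)) a ψ := by
  haveI := (std_whiskerRight i T).1
  haveI := (std_whiskerRight i T).2
  haveI := (std_whiskerLeft G (i ▷ T)).1
  refine eq_of_std (G ◁ (i ▷ T)) ?_
  have key : ∀ (R : Over (Spec (CommRingCat.of k))) (g : R ⟶ G) (t : R ⟶ T), lift (g ≫ i) t ≫ ψ = lift g (t ≫ x) ≫ a.act := by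
    intro R g t
    rw [← lift_whiskerRight_assoc, hψ, orbit, lift_whiskerLeft_assoc]
  apply hom_ext_lift₂
  intro R g z
  rw [← lift_comp_fst_snd z]
  simp only [lift_whiskerLeft_assoc, lift_whiskerRight, lift_whiskerRight_assoc, MonAct.lift_prod_act_assoc,
    MonAct.lift_trivial_act, MonAct.lift_restrict_act, MonAct.lift_regular_act]
  rw [key, ← MonObj.mul_comp, key, MonAct.lift_mul_act]

end MonEqvLib

end
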