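import Groth.Agent.MonEqvLib.Base
import Mathlib.AlgebraicGeometry.ResidueField
import Mathlib.AlgebraicGeometry.PullbackCarrier

/-!
# Equivariant maps out of a monoid with zero land in a stable open containing the value at the zero
-/

set_option autoImplicit false
universe u

open CategoryTheory CategoryTheory.Limits MonoidalCategory CartesianMonoidalCategory MonObj AlgebraicGeometry Opposite
open Magnet

noncomputable section

namespace MonEqvLib

variable {k : Type u} [Field k] {M G X U : Over (Spec (CommRingCat.of k))} [MonObj M] [GrpObj G] (i : G ⟶ M)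
  [IsMonHom i]

theorem exists_lift_open (o : 𝟙_ (Over (Spec (CommRingCat.of k))) ⟶ M) (aX : AlgGrp.Action G X)
    (aU : AlgGrp.Action G U) (j : U ⟶ X) [IsOpenImmersion j.left]
    (hj : MonAct.IsEquivariant (MonAct.ofAction aU) (MonAct.ofAction aX) j)
    (hM : ∀ (T : Over (Spec (CommRingCat.of k))) (K : Type u) [Field K] (eT : T.left ≅ Spec (CommRingCat.of K))
      (W : (M ⊗ T).left.Opens),
      (snd G (M ⊗ T)).left ⁻¹ᵁ W ≤
          ((((MonAct.regular M).restrict i).prod (MonAct.trivial G T)).act).left ⁻¹ᵁ W →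
      (lift (toUnit T ≫ o) (𝟙 T)).left ⁻¹ᵁ W = ⊤ → W = ⊤)
    {T : Over (Spec (CommRingCat.of k))} (ψ : M ⊗ T ⟶ X)
    (hψ : MonAct.IsEquivariant (((MonAct.regular M).restrict i).prod (MonAct.trivial G T)) (MonAct.ofAction aX) ψ)
    (z : T ⟶ U) (hz : lift (toUnit T ≫ o) (𝟙 T) ≫ ψ = z ≫ j) :
    ∃ χ : M ⊗ T ⟶ U, χ ≫ j = ψ := by
  have hr : Set.range ψ.left ⊆ Set.range j.left := by
    rintro _ ⟨w, rfl⟩
    let t : T.left := (snd M T).left w
    let T' : Over (Spec (CommRingCat.of k)) := Over.mk (T.left.fromSpecResidueField t ≫ T.hom)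
    let q : T' ⟶ T := Over.homMk (T.left.fromSpecResidueField t) rfl
    let ψ' : M ⊗ T' ⟶ X := (M ◁ q) ≫ ψ
    let W : (M ⊗ T').left.Opens := ψ'.left ⁻¹ᵁ j.left.opensRange
    have hψ' : MonAct.IsEquivariant (((MonAct.regular M).restrict i).prod (MonAct.trivial G T'))
        (MonAct.ofAction aX) ψ' := by
      have h : _ = _ := hψ
      unfold MonAct.IsEquivariant
      rw [MonAct.prod_trivial_act_whiskerLeft_assoc, h, MonoidalCategory.whiskerLeft_comp, Category.assoc]
    have hW : W = ⊤ := by
      refine hM T' (T.left.residueField t) (Iso.refl _) W ?_ ?_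
      · intro p hp
        change ψ'.left ((((MonAct.regular M).restrict i).prod (MonAct.trivial G T')).act.left p) ∈ Set.range j.left
        rw [← Scheme.Hom.comp_apply, ← Over.comp_left, show _ = _ from hψ', Over.comp_left,
          Scheme.Hom.comp_apply]
        obtain ⟨u', hu⟩ := (show ψ'.left ((snd G (M ⊗ T')).left p) ∈ Set.range j.left from hp)
        have hsq : (snd G X).left ((G ◁ ψ').left p) = j.left u' := by
          rw [hu, ← Scheme.Hom.comp_apply, ← Scheme.Hom.comp_apply, ← Over.comp_left, ← Over.comp_left,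
            whiskerLeft_snd]
        obtain ⟨c, hc1, -⟩ := Scheme.exists_preimage_of_isPullback (isPullback_whiskerLeft G j) _ u' hsq
        rw [← hc1, ← Scheme.Hom.comp_apply, ← Over.comp_left, ← show _ = _ from hj, Over.comp_left,
          Scheme.Hom.comp_apply]
        exact ⟨_, rfl⟩
      · refine eq_top_iff.mpr fun p _ => ?_
        change ψ'.left ((lift (toUnit T' ≫ o) (𝟙 T')).left p) ∈ Set.range j.left
        have h : lift (toUnit T' ≫ o) (𝟙 T') ≫ ψ' = (q ≫ z) ≫ j := by
          rw [Category.assoc, ← hz]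
          simp [ψ', comp_lift_assoc]
        rw [← Scheme.Hom.comp_apply, ← Over.comp_left, h, Over.comp_left, Scheme.Hom.comp_apply]
        exact ⟨_, rfl⟩
    obtain ⟨x, hx⟩ : t ∈ Set.range q.left := by
      change t ∈ Set.range (T.left.fromSpecResidueField t)
      rw [Scheme.range_fromSpecResidueField]
      exact Set.mem_singleton t
    obtain ⟨c, hc1, -⟩ := Scheme.exists_preimage_of_isPullback (isPullback_whiskerLeft M q) w x hx.symm
    have hcW : c ∈ W := hW ▸ trivial
    rw [← hc1, ← Scheme.Hom.comp_apply, ← Over.comp_left]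
    exact hcW
  refine ⟨Over.homMk (IsOpenImmersion.lift j.left ψ.left hr) ?_, Over.OverMorphism.ext (IsOpenImmersion.lift_fac _ _ hr)⟩
  rw [← Over.w j, IsOpenImmersion.lift_fac_assoc, Over.w ψ]

end MonEqvLib

end
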