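import Groth.Agent.MonEqvLib.Aff
import Groth.Agent.MonEqvLib.Open
import Groth.Agent.RepCoverLib.Main

/-!
# Representability of the functor of equivariant maps, glued from stable affine charts
-/

set_option autoImplicit false
set_option linter.style.haveILetI false
universe u

open CategoryTheory CategoryTheory.Limits MonoidalCategory CartesianMonoidalCategory MonObj AlgebraicGeometry Opposite
open Magnet
open Groth.Agent.FinHom (IsZarSheaf isZarSheaf_yoneda)

noncomputable section

namespace MonEqvLib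

variable {k : Type u} [Field k]

theorem isOpenImmersion_whiskerLeft (B : Over (Spec (CommRingCat.of k))) {T T' : Over (Spec (CommRingCat.of k))}
    (q : T' ⟶ T) (h : IsOpenImmersion q.left) : IsOpenImmersion (B ◁ q).left :=
  MorphismProperty.of_isPullback (isPullback_whiskerLeft B q).flip h

theorem covers_whiskerLeft (B : Over (Spec (CommRingCat.of k))) {T : Over (Spec (CommRingCat.of k))} {I : Type u}
    {T' : I → Over (Spec (CommRingCat.of k))} (g : ∀ i, T' i ⟶ T) (h : ∀ x : T.left, ∃ i, x ∈ Set.range (g i).left)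
    (y : (B ⊗ T).left) : ∃ i, y ∈ Set.range (B ◁ g i).left := by
  obtain ⟨i, x, hx⟩ := h ((snd B T).left y)
  obtain ⟨c, hc, -⟩ := Scheme.exists_preimage_of_isPullback (isPullback_whiskerLeft B (g i)) y x hx.symm
  exact ⟨i, c, hc⟩

variable {A B X : Over (Spec (CommRingCat.of k))} [MonObj A] (ρ : MonAct A B) (a : MonAct A X)

theorem isZarSheaf_eqvHom : IsZarSheaf (MonAct.eqvHom ρ a) := by
  constructor
  · intro T I T' g hg hcov φ φ' h
    exact Subtype.ext ((isZarSheaf_yoneda X).ext (fun i => B ◁ g i)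
      (fun i => isOpenImmersion_whiskerLeft B _ (hg i)) (covers_whiskerLeft B g hcov) φ.1 φ'.1
      fun i => congrArg Subtype.val (h i))
  · intro T I T' g hg hcov φ hφ
    obtain ⟨ψ, hψ⟩ := (isZarSheaf_yoneda X).glue (fun i => B ◁ g i)
      (fun i => isOpenImmersion_whiskerLeft B _ (hg i)) (covers_whiskerLeft B g hcov) (fun i => (φ i).1)
      fun i j R p q hpq => by
        change p ≫ (φ i).1 = q ≫ (φ j).1
        have h1 : p ≫ fst B (T' i) = q ≫ fst B (T' j) := by
          simpa only [Category.assoc, whiskerLeft_fst] using congrArg (· ≫ fst B T) hpq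
        have h2 : (p ≫ snd B (T' i)) ≫ g i = (q ≫ snd B (T' j)) ≫ g j := by
          simpa only [Category.assoc, whiskerLeft_snd] using congrArg (· ≫ snd B T) hpq
        have h : (B ◁ (p ≫ snd B (T' i))) ≫ (φ i).1 = (B ◁ (q ≫ snd B (T' j))) ≫ (φ j).1 :=
          congrArg Subtype.val (hφ i j R _ _ h2)
        have h' := congrArg (lift (p ≫ fst B (T' i)) (𝟙 R) ≫ ·) h
        simp only [lift_whiskerLeft_assoc, Category.id_comp] at h'
        rw [← lift_comp_fst_snd p, ← lift_comp_fst_snd q, h']
        rw [h1]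
    have hψ' : ∀ i, (B ◁ g i) ≫ ψ = (φ i).1 := hψ
    refine ⟨⟨ψ, ?_⟩, fun i => Subtype.ext (hψ' i)⟩
    unfold MonAct.IsEquivariant
    refine (isZarSheaf_yoneda X).ext (fun i => A ◁ (B ◁ g i))
      (fun i => isOpenImmersion_whiskerLeft A _ (isOpenImmersion_whiskerLeft B _ (hg i)))
      (covers_whiskerLeft A _ (covers_whiskerLeft B g hcov)) _ _ fun i => ?_
    change (A ◁ (B ◁ g i)) ≫ _ ≫ ψ = (A ◁ (B ◁ g i)) ≫ (A ◁ ψ) ≫ a.act
    rw [← MonAct.prod_trivial_act_whiskerLeft_assoc, hψ', ← MonoidalCategory.whiskerLeft_comp_assoc, hψ']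
    exact (φ i).2

omit [MonObj A] in
theorem whiskerLeft_mono {U : Over (Spec (CommRingCat.of k))} (j : U ⟶ X) [IsOpenImmersion j.left] : Mono j :=
  (Over.forget _).mono_of_mono_map (show Mono j.left from inferInstance)

variable {G : Over (Spec (CommRingCat.of k))} [GrpObj G] (aX : AlgGrp.Action G X)

theorem exists_openAction (U : X.left.Opens) (hU : (snd G X).left ⁻¹ᵁ U ≤ aX.act.left ⁻¹ᵁ U) :
    ∃ aU : AlgGrp.Action G (Over.mk (U.ι ≫ X.hom)),
      MonAct.IsEquivariant (MonAct.ofAction aU) (MonAct.ofAction aX) (Over.homMk U.ι rfl) := by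
  let UO : Over (Spec (CommRingCat.of k)) := Over.mk (U.ι ≫ X.hom)
  let j : UO ⟶ X := Over.homMk U.ι rfl
  haveI : IsOpenImmersion j.left := inferInstanceAs (IsOpenImmersion U.ι)
  haveI : Mono j := (Over.forget _).mono_of_mono_map (show Mono j.left from inferInstance)
  have hr : Set.range ((G ◁ j) ≫ aX.act).left ⊆ Set.range j.left := by
    rintro _ ⟨p, rfl⟩
    change _ ∈ Set.range U.ι
    rw [Scheme.Opens.range_ι]
    rw [Over.comp_left, Scheme.Hom.comp_apply]
    refine hU ?_
    change (snd G X).left ((G ◁ j).left p) ∈ U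
    rw [← Scheme.Hom.comp_apply, ← Over.comp_left, whiskerLeft_snd, Over.comp_left, Scheme.Hom.comp_apply]
    exact ((snd G UO).left p).2
  let act : G ⊗ UO ⟶ UO := Over.homMk (IsOpenImmersion.lift j.left ((G ◁ j) ≫ aX.act).left hr) (by
    rw [← Over.w j, IsOpenImmersion.lift_fac_assoc, Over.w ((G ◁ j) ≫ aX.act)])
  have hact : act ≫ j = (G ◁ j) ≫ aX.act := Over.OverMorphism.ext (IsOpenImmersion.lift_fac _ _ hr)
  refine ⟨{ act := act, one_act := (cancel_mono j).mp ?_, mul_act := (cancel_mono j).mp ?_ }, hact⟩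
  · rw [Category.assoc, hact, ← whisker_exchange_assoc, aX.one_act, leftUnitor_naturality]
  · simp only [Category.assoc, hact]
    rw [← whisker_exchange_assoc, aX.mul_act, ← MonoidalCategory.whiskerLeft_comp_assoc, hact,
      MonoidalCategory.whiskerLeft_comp, Category.assoc, tensor_whiskerLeft, Category.assoc, Category.assoc,
      Iso.inv_hom_id_assoc]

end MonEqvLib

end
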